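import Mathlib
import Groth.Agent.RegLocal.Basic
import Groth.Agent.S5774

/-!
Cotangent spaces along flat local homomorphisms with regular closed fibre (EGA 0_IV 17.3.3).
-/

universe u

set_option backward.isDefEq.respectTransparency false

namespace Groth.Agent.CotFibreLib

open IsLocalRing RingTheory.Sequence

variable {A B : Type u} [CommRing A] [CommRing B] [IsLocalRing A] [IsLocalRing B] [IsNoetherianRing A]
  [IsNoetherianRing B] [Algebra A B] [IsLocalHom (algebraMap A B)]

theorem sfr_eq_finrank (R : Type u) [CommRing R] [IsLocalRing R] [IsNoetherianRing R] :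
    (maximalIdeal R).spanFinrank = Module.finrank (ResidueField R) (CotangentSpace R) :=
  spanFinrank_maximalIdeal_eq_finrank_cotangentSpace R

theorem spanFinrank_le [IsLocalRing (B ⧸ (maximalIdeal A).map (algebraMap A B))] :
    (maximalIdeal B).spanFinrank ≤ (maximalIdeal A).spanFinrank +
      (maximalIdeal (B ⧸ (maximalIdeal A).map (algebraMap A B))).spanFinrank := by
  classical
  set J := (maximalIdeal A).map (algebraMap A B) with hJdef
  obtain ⟨u, hu⟩ := RegLocal.exists_generators A
  obtain ⟨z, hz⟩ := RegLocal.exists_generators (B ⧸ J)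
  have hne : J ≠ ⊤ := fun h => (maximalIdeal.isMaximal B).ne_top
    (top_le_iff.1 (h ▸ IsLocalRing.map_maximalIdeal_le (algebraMap A B)))
  choose w hw using fun j => Ideal.Quotient.mk_surjective (z j)
  have hgen : maximalIdeal B = Ideal.span (Set.range (Sum.elim (fun i => algebraMap A B (u i)) w)) := by
    have hmap : (maximalIdeal B).map (Ideal.Quotient.mk J) = maximalIdeal (B ⧸ J) :=
      map_maximalIdeal_of_surjective _ Ideal.Quotient.mk_surjective
    have hJ : J = Ideal.span (Set.range fun i => algebraMap A B (u i)) := by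
      refine hJdef.trans ?_
      conv_lhs => rw [← hu, Ideal.map_span, ← Set.range_comp]
      rfl
    rw [Set.Sum.elim_range, Ideal.span_union, ← hJ]
    refine le_antisymm (fun b hb => ?_) (sup_le (IsLocalRing.map_maximalIdeal_le _) ?_)
    · have h1 : Ideal.Quotient.mk J b ∈ (Ideal.span (Set.range w)).map (Ideal.Quotient.mk J) := by
        rw [Ideal.map_span, ← Set.range_comp, show (Ideal.Quotient.mk J ∘ w) = z from funext hw, hz, ← hmap]
        exact Ideal.mem_map_of_mem _ hb
      rw [← Ideal.mem_comap, Ideal.comap_map_of_surjective' _ Ideal.Quotient.mk_surjective, Ideal.mk_ker] at h1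
      rwa [sup_comm]
    · refine Ideal.span_le.2 ?_
      rintro _ ⟨j, rfl⟩
      have h2 : Ideal.Quotient.mk J (w j) ∈ maximalIdeal (B ⧸ J) := by
        rw [hw, ← hz]; exact Ideal.subset_span ⟨j, rfl⟩
      by_contra h
      exact (mem_maximalIdeal _).1 h2 ((notMem_maximalIdeal.1 h).map _)
  rw [hgen]
  refine (Submodule.spanFinrank_span_le_ncard_of_finite (Set.finite_range _)).trans ?_
  rw [← Set.image_univ]
  refine (Set.ncard_image_le Set.finite_univ).trans (le_of_eq ?_)
  rw [Set.ncard_univ, Nat.card_eq_fintype_card, Fintype.card_sum, Fintype.card_fin, Fintype.card_fin]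

/-- A flat local homomorphism with `m_A B = m_B` preserves the embedding dimension. -/
theorem spanFinrank_eq_of_map_eq [Module.Flat A B] (h : (maximalIdeal A).map (algebraMap A B) = maximalIdeal B) :
    (maximalIdeal B).spanFinrank = (maximalIdeal A).spanFinrank := by
  classical
  refine le_antisymm (h ▸ Ideal.spanFinrank_map_le_of_fg _ (maximalIdeal A).fg_of_isNoetherianRing) ?_
  haveI := Module.FaithfullyFlat.of_flat_of_isLocalHom (A := A) (B := B)
  set k := ResidueField B
  let S : Set (CotangentSpace B) := Set.range fun a : maximalIdeal A =>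
    (maximalIdeal B).toCotangent ⟨algebraMap A B a, map_nonunit (algebraMap A B) a a.2⟩
  have hS : Submodule.span k S = ⊤ := by
    rw [show S = (maximalIdeal B).toCotangent '' (Set.range fun a : maximalIdeal A =>
        (⟨algebraMap A B a, map_nonunit (algebraMap A B) a a.2⟩ : maximalIdeal B)) from by
          rw [← Set.range_comp]; rfl,
      CotangentSpace.span_image_eq_top_iff]
    refine Submodule.map_injective_of_injective (maximalIdeal B).injective_subtype ?_
    rw [Submodule.map_span, Submodule.map_top, Submodule.range_subtype, ← Set.range_comp]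
    conv_rhs => rw [← h]
    rw [Ideal.map]
    congr 1
    ext y
    simp
  obtain ⟨b, hbS, hbspan, hbli⟩ := exists_linearIndependent k S
  rw [hS] at hbspan
  haveI : Fintype b := hbli.setFinite.fintype
  choose g hg using fun v : b => hbS v.2
  let J : Ideal A := Ideal.span (Set.range fun v : b => (g v : A))
  have hgen : Ideal.span (Set.range fun v : b => algebraMap A B (g v)) = maximalIdeal B := by
    have h1 : Submodule.span k ((maximalIdeal B).toCotangent ''
        (Set.range fun v : b => (⟨algebraMap A B (g v), map_nonunit (algebraMap A B) _ (g v).2⟩ : maximalIdeal B))) = ⊤ := by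
      rw [← Set.range_comp, ← hbspan]
      congr 1
      ext y
      refine ⟨fun ⟨v, hv⟩ => ?_, fun hy => ⟨⟨y, hy⟩, hg ⟨y, hy⟩⟩⟩
      rw [← hv, Function.comp_apply, show (maximalIdeal B).toCotangent ⟨algebraMap A B (g v), map_nonunit (algebraMap A B) _ (g v).2⟩ = (v : CotangentSpace B) from hg v]
      exact v.2
    rw [CotangentSpace.span_image_eq_top_iff] at h1
    have := congrArg (Submodule.map (maximalIdeal B).subtype) h1
    rw [Submodule.map_span, Submodule.map_top, Submodule.range_subtype, ← Set.range_comp] at this
    exact this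
  have hJ : J.map (algebraMap A B) = maximalIdeal B := by
    rw [Ideal.map_span, ← Set.range_comp]
    exact hgen
  have hJm : J = maximalIdeal A := by
    rw [← Ideal.comap_map_eq_self_of_faithfullyFlat (B := B) J, hJ, ← h,
      Ideal.comap_map_eq_self_of_faithfullyFlat (B := B)]
  rw [← hJm]
  refine (Submodule.spanFinrank_span_le_ncard_of_finite (Set.finite_range _)).trans ?_
  rw [← Set.image_univ]
  refine (Set.ncard_image_le Set.finite_univ).trans ?_
  rw [Set.ncard_univ, Nat.card_eq_fintype_card, sfr_eq_finrank B, ← finrank_span_set_eq_card hbli |>.trans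
    (Set.toFinset_card b), hbspan, finrank_top]

theorem spanFinrank_eq [Module.Flat A B] [IsRegularLocalRing (B ⧸ (maximalIdeal A).map (algebraMap A B))] :
    (maximalIdeal B).spanFinrank = (maximalIdeal A).spanFinrank +
      (maximalIdeal (B ⧸ (maximalIdeal A).map (algebraMap A B))).spanFinrank := by
  classical
  refine le_antisymm spanFinrank_le ?_
  set J := (maximalIdeal A).map (algebraMap A B) with hJdef
  set F := B ⧸ J
  set r := (maximalIdeal F).spanFinrank
  obtain ⟨d, hd⟩ := RegLocal.exists_nat_ringKrullDim F
  have hrd : r = d := by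
    have := IsRegularLocalRing.spanFinrank_maximalIdeal (R := F)
    rw [hd] at this
    exact_mod_cast this
  obtain ⟨z, hz⟩ := RegLocal.exists_generators F
  have hzr : IsWeaklyRegular F (List.ofFn z) :=
    (RegLocal.isRegular_of_generators F (d := r) (hrd ▸ hd) z hz).1
  choose y hy using fun j => Ideal.Quotient.mk_surjective (z j)
  have hym : ∀ j, y j ∈ maximalIdeal B := fun j => by
    by_contra h
    have h2 : z j ∈ maximalIdeal F := hz.le (Ideal.subset_span ⟨j, rfl⟩)
    exact (mem_maximalIdeal _).1 h2 (hy j ▸ (notMem_maximalIdeal.1 h).map _)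
  have hreg : IsWeaklyRegular (B ⧸ (J • ⊤ : Submodule B B)) (List.ofFn y) := by
    refine ((Submodule.quotEquivOfEq _ J (by rw [smul_eq_mul, Ideal.mul_top])).isWeaklyRegular_congr _).2 ?_
    refine (isWeaklyRegular_map_algebraMap_iff F F (List.ofFn y)).1 ?_
    rw [List.map_ofFn, show (algebraMap B F ∘ y) = z from funext hy]
    exact hzr
  obtain ⟨-, hflat⟩ := S5774.result A B B (List.ofFn y) hreg
  set I := Ideal.span (Set.range y) with hIdef
  have hofl : Ideal.ofList (List.ofFn y) = I := by
    rw [Ideal.ofList, hIdef]; congr 1; ext b; simp [List.mem_ofFn]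
  haveI : Module.Flat A (B ⧸ I) := by
    haveI := hflat _ le_rfl
    exact Module.Flat.of_linearEquiv
      ((Submodule.quotEquivOfEq (Ideal.ofList ((List.ofFn y).take (List.ofFn y).length) • (⊤ : Submodule B B)) I
        (by rw [List.take_length, hofl, smul_eq_mul, Ideal.mul_top])).restrictScalars A).symm
  have hIm : I ≤ maximalIdeal B := Ideal.span_le.2 (by rintro _ ⟨j, rfl⟩; exact hym j)
  have hIne : I ≠ ⊤ := fun h => (maximalIdeal.isMaximal B).ne_top (top_le_iff.1 (h ▸ hIm))
  haveI := RegLocal.isLocalRing_quot hIne
  haveI : IsLocalHom (algebraMap A (B ⧸ I)) := ⟨fun a ha => by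
    by_contra h
    exact (mem_maximalIdeal _).1 (by
      rw [RegLocal.maximalIdeal_quot hIne]
      exact Ideal.mem_map_of_mem (Ideal.Quotient.mk I) (map_nonunit (algebraMap A B) a ((mem_maximalIdeal a).2 h))) ha⟩
  have hmB : maximalIdeal B = J ⊔ I := by
    refine le_antisymm (fun b hb => ?_) (sup_le (IsLocalRing.map_maximalIdeal_le _) hIm)
    have h1 : Ideal.Quotient.mk J b ∈ I.map (Ideal.Quotient.mk J) := by
      rw [hIdef, Ideal.map_span, ← Set.range_comp, show (Ideal.Quotient.mk J ∘ y) = z from funext hy, hz,
        ← map_maximalIdeal_of_surjective (Ideal.Quotient.mk J) Ideal.Quotient.mk_surjective]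
      exact Ideal.mem_map_of_mem _ hb
    rw [← Ideal.mem_comap, Ideal.comap_map_of_surjective' _ Ideal.Quotient.mk_surjective, Ideal.mk_ker] at h1
    rwa [sup_comm]
  have hmI : (maximalIdeal A).map (algebraMap A (B ⧸ I)) = maximalIdeal (B ⧸ I) := by
    rw [RegLocal.maximalIdeal_quot hIne, hmB, Ideal.map_sup, Ideal.map_quotient_self, sup_bot_eq,
      hJdef, Ideal.map_map]
    rfl
  have ha : (maximalIdeal (B ⧸ I)).spanFinrank = (maximalIdeal A).spanFinrank := spanFinrank_eq_of_map_eq hmI
  set k := ResidueField B
  let v : Fin r → CotangentSpace B := fun j => (maximalIdeal B).toCotangent ⟨y j, hym j⟩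
  obtain ⟨b, hbv, hbspan, hbli⟩ := exists_linearIndependent k (Set.range v)
  haveI : Fintype b := hbli.setFinite.fintype
  choose σ hσ using fun e : b => hbv e.2
  have hr : r ≤ Fintype.card b := by
    have hgenF : maximalIdeal F ≤ Ideal.span (Set.range fun e : b => z (σ e)) := by
      refine Submodule.le_of_le_smul_of_le_jacobson_bot (maximalIdeal F).fg_of_isNoetherianRing
        (maximalIdeal_le_jacobson _) ?_
      conv_lhs => rw [← hz]
      refine Ideal.span_le.2 ?_
      rintro _ ⟨j, rfl⟩
      have hj : v j ∈ Submodule.span k b := hbspan ▸ Submodule.subset_span ⟨j, rfl⟩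
      rw [← Subtype.range_coe (s := b), show ((↑) : b → CotangentSpace B) =
          (maximalIdeal B).toCotangent ∘ (fun e : b => (⟨y (σ e), hym _⟩ : maximalIdeal B)) from
            (funext hσ).symm, Set.range_comp] at hj
      have hj' : v j ∈ (Submodule.span k ((maximalIdeal B).toCotangent ''
          Set.range fun e : b => (⟨y (σ e), hym _⟩ : maximalIdeal B))).restrictScalars B := hj
      rw [Submodule.restrictScalars_span _ _ IsLocalRing.residue_surjective, ← Submodule.map_span] at hj'
      obtain ⟨t, ht, hvt⟩ := hj'
      have ht' : (t : B) ∈ Ideal.span (Set.range fun e : b => y (σ e)) := by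
        have := Submodule.mem_map_of_mem (f := (maximalIdeal B).subtype) ht
        rw [Submodule.map_span, ← Set.range_comp] at this
        exact this
      have hsub : y j - t ∈ maximalIdeal B ^ 2 := (Ideal.toCotangent_eq _).1 hvt.symm
      have h1 : z j - Ideal.Quotient.mk J (t : B) ∈ maximalIdeal F * maximalIdeal F := by
        rw [← hy j, ← map_sub, ← sq, ← map_maximalIdeal_of_surjective (Ideal.Quotient.mk J) Ideal.Quotient.mk_surjective,
          ← Ideal.map_pow]
        exact Ideal.mem_map_of_mem _ hsub
      have h2 : Ideal.Quotient.mk J (t : B) ∈ Ideal.span (Set.range fun e : b => z (σ e)) := by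
        have := Ideal.mem_map_of_mem (Ideal.Quotient.mk J) ht'
        rw [Ideal.map_span, ← Set.range_comp] at this
        simpa only [Function.comp_def, hy] using this
      rw [← add_sub_cancel (Ideal.Quotient.mk J (t : B)) (z j)]
      exact add_mem (Submodule.mem_sup_left h2) (Submodule.mem_sup_right h1)
    have heq : maximalIdeal F = Ideal.span (Set.range fun e : b => z (σ e)) :=
      le_antisymm hgenF (Ideal.span_le.2 (by rintro _ ⟨e, rfl⟩; exact hz.le (Ideal.subset_span ⟨_, rfl⟩)))
    show (maximalIdeal F).spanFinrank ≤ _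
    rw [heq]
    refine (Submodule.spanFinrank_span_le_ncard_of_finite (Set.finite_range _)).trans ?_
    rw [← Set.image_univ]
    exact (Set.ncard_image_le Set.finite_univ).trans_eq (by rw [Set.ncard_univ, Nat.card_eq_fintype_card])
  let bas := Module.Basis.sumExtend (K := k) hbli
  haveI := FiniteDimensional.fintypeBasisIndex bas
  haveI : Finite (Module.Basis.sumExtendIndex (K := k) hbli) :=
    Finite.of_injective (Sum.inr : _ → b ⊕ Module.Basis.sumExtendIndex (K := k) hbli) Sum.inr_injective
  haveI : Fintype (Module.Basis.sumExtendIndex (K := k) hbli) := Fintype.ofFinite _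
  have hn : (maximalIdeal B).spanFinrank = Fintype.card b + Fintype.card (Module.Basis.sumExtendIndex (K := k) hbli) := by
    rw [sfr_eq_finrank B, Module.finrank_eq_card_basis bas, ← Fintype.card_sum]
    convert rfl
  choose w hw using fun e : b ⊕ Module.Basis.sumExtendIndex (K := k) hbli =>
    Ideal.toCotangent_surjective (maximalIdeal B) (bas e)
  have hspan : Ideal.span (Set.range fun e => (w e : B)) = maximalIdeal B := by
    have h1 : Submodule.span k ((maximalIdeal B).toCotangent '' Set.range w) = ⊤ := by
      rw [← Set.range_comp, show ((maximalIdeal B).toCotangent ∘ w) = bas from funext hw]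
      exact bas.span_eq
    rw [CotangentSpace.span_image_eq_top_iff] at h1
    have := congrArg (Submodule.map (maximalIdeal B).subtype) h1
    rw [Submodule.map_span, Submodule.map_top, Submodule.range_subtype, ← Set.range_comp] at this
    exact this
  have hquot : (maximalIdeal (B ⧸ I)).spanFinrank ≤ Fintype.card (Module.Basis.sumExtendIndex (K := k) hbli) := by
    have hle : maximalIdeal (B ⧸ I) ≤ Ideal.span (Set.range fun e => Ideal.Quotient.mk I (w (Sum.inr e) : B)) := by
      refine Submodule.le_of_le_smul_of_le_jacobson_bot (maximalIdeal (B ⧸ I)).fg_of_isNoetherianRing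
        (maximalIdeal_le_jacobson _) ?_
      conv_lhs => rw [RegLocal.maximalIdeal_quot hIne, ← hspan, Ideal.map_span, ← Set.range_comp]
      refine Ideal.span_le.2 ?_
      rintro _ ⟨e | e, rfl⟩
      · refine Submodule.mem_sup_right ?_
        have h1 : (maximalIdeal B).toCotangent (w (Sum.inl e)) = (maximalIdeal B).toCotangent ⟨y (σ e), hym _⟩ := by
          rw [hw, ← show ((e : CotangentSpace B)) = bas (Sum.inl e) from by
            simp [bas, Module.Basis.sumExtend, Trans.trans]
            rfl]
          exact (hσ e).symm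
        have h2 := Ideal.mem_map_of_mem (Ideal.Quotient.mk I) ((Ideal.toCotangent_eq _).1 h1)
        rw [Ideal.map_pow, ← RegLocal.maximalIdeal_quot hIne, map_sub,
          Ideal.Quotient.eq_zero_iff_mem.2 (Ideal.subset_span ⟨σ e, rfl⟩ : y (σ e) ∈ I), sub_zero, sq] at h2
        exact h2
      · exact Submodule.mem_sup_left (Ideal.subset_span ⟨e, rfl⟩)
    have heq : maximalIdeal (B ⧸ I) = Ideal.span (Set.range fun e => Ideal.Quotient.mk I (w (Sum.inr e) : B)) :=
      le_antisymm hle (Ideal.span_le.2 (by
        rintro _ ⟨e, rfl⟩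
        rw [RegLocal.maximalIdeal_quot hIne]
        exact Ideal.mem_map_of_mem _ (w (Sum.inr e)).2))
    rw [heq]
    refine (Submodule.spanFinrank_span_le_ncard_of_finite (Set.finite_range _)).trans ?_
    rw [← Set.image_univ]
    exact (Set.ncard_image_le Set.finite_univ).trans_eq (by rw [Set.ncard_univ, Nat.card_eq_fintype_card])
  omega

end Groth.Agent.CotFibreLib
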